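import Groth.Agent.Sga4h.H929.NDef
import Mathlib.AlgebraicGeometry.Morphisms.Proper
import Mathlib.RingTheory.DedekindDomain.Dvr
import Mathlib.AlgebraicGeometry.Stalk

/-!
# Geometry of `G_m`: irreducible, one-dimensional, not proper
-/

set_option autoImplicit false
universe u

open CategoryTheory CategoryTheory.Limits AlgebraicGeometry Opposite Polynomial
open scoped LaurentPolynomial

namespace Groth.Agent.Sga4h.H137.GmGeo

open Groth.Agent.Sga4h.H929.NDef

variable (K : Type u) [Field K]

/-- `G_m` -/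
noncomputable abbrev Gm : Scheme.{u} := Spec (CommRingCat.of K[T;T⁻¹])

instance isIntegral_Gm : IsIntegral (Gm K) := inferInstance

instance irreducibleSpace_Gm : IrreducibleSpace (Gm K) := inferInstance

/-- the structure map of `G_m` -/
noncomputable abbrev aG : Gm K ⟶ Spec (CommRingCat.of K) := ι K ≫ str K

theorem aG_eq : aG K = Spec.map (CommRingCat.ofHom (algebraMap K K[T;T⁻¹])) := by
  rw [aG, ι, str, ← Spec.map_comp]
  congr 1
  refine CommRingCat.hom_ext (RingHom.ext fun c => ?_)
  exact Polynomial.toLaurent_C c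

instance finiteType_aG : LocallyOfFiniteType (aG K) := by
  rw [aG_eq]
  rw [HasRingHomProperty.Spec_iff (P := @LocallyOfFiniteType)]
  change (algebraMap K K[T;T⁻¹]).FiniteType
  rw [RingHom.finiteType_algebraMap]
  infer_instance

instance quasiCompact_aG : QuasiCompact (aG K) := inferInstance

theorem isClosed_singleton (x : Gm K) (hx : x ≠ genericPoint (Gm K)) : IsClosed ({x} : Set (Gm K)) := by
  have h0 : x.asIdeal ≠ ⊥ := by
    intro h
    apply hx
    have h1 : genericPoint (Gm K) = (⟨⊥, Ideal.isPrime_bot⟩ : PrimeSpectrum K[T;T⁻¹]) :=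
      genericPoint_eq_bot_of_affine (CommRingCat.of K[T;T⁻¹])
    rw [h1]
    exact PrimeSpectrum.ext h
  have h1 : Ring.DimensionLEOne K[T;T⁻¹] :=
    Ring.DimensionLEOne.localization (R := K[X]) K[T;T⁻¹]
      (M := Submonoid.powers (X : K[X])) (powers_le_nonZeroDivisors_of_noZeroDivisors Polynomial.X_ne_zero)
  have h2 : x.asIdeal.IsMaximal := h1.maximalOfPrime h0 x.isPrime
  exact (PrimeSpectrum.isClosed_singleton_iff_isMaximal x).2 h2

theorem not_finite : ¬ (algebraMap K K[T;T⁻¹]).Finite := by
  intro h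
  obtain ⟨P, hP, h0⟩ := h.to_isIntegral (LaurentPolynomial.T 1 : K[T;T⁻¹])
  have h1 : Polynomial.eval₂ (algebraMap K K[T;T⁻¹]) (LaurentPolynomial.T 1) P = Polynomial.toLaurent P := by
    have h2 : Polynomial.eval₂RingHom (algebraMap K K[T;T⁻¹]) (LaurentPolynomial.T 1) =
        (Polynomial.toLaurent : K[X] →+* K[T;T⁻¹]) := by
      apply Polynomial.ringHom_ext
      · intro c
        rw [Polynomial.coe_eval₂RingHom, Polynomial.eval₂_C, Polynomial.toLaurent_C]
        rfl
      · rw [Polynomial.coe_eval₂RingHom, Polynomial.eval₂_X, Polynomial.toLaurent_X]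
    exact DFunLike.congr_fun h2 P
  rw [h1] at h0
  have h3 : P = 0 := Polynomial.toLaurent_injective (by rw [h0, map_zero])
  exact hP.ne_zero h3

theorem not_isClosed_range {P : Scheme.{u}} (j : Gm K ⟶ P) [IsOpenImmersion j]
    (f : P ⟶ Spec (CommRingCat.of K)) [IsProper f] (w : j ≫ f = aG K) : ¬ IsClosed (Set.range j) := by
  intro hc
  have h1 : IsClosedImmersion j :=
    { isClosedEmbedding := ⟨j.isOpenEmbedding.isEmbedding, hc⟩ }
  have h2 : IsProper (aG K) := by
    rw [← w]
    infer_instance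
  have h3 : IsFinite (aG K) :=
    IsFinite.iff_isProper_and_isAffineHom.2 ⟨h2, inferInstance⟩
  rw [aG_eq, IsFinite.SpecMap_iff] at h3
  exact not_finite K h3

end Groth.Agent.Sga4h.H137.GmGeo
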