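import Groth.Agent.EtpbcB.GammaRpush
import Groth.Agent.Etcore.Stalks

/-!
# `R^q a_* F = 0` iff `H^q(X, F) = 0` over a separably closed field
-/

set_option autoImplicit false
universe u

open CategoryTheory CategoryTheory.Limits AlgebraicGeometry Opposite

namespace Groth.Agent.Sga4h.H137.HR

open Groth.Agent.EtpbcB.SepClosedPoint Groth.Agent.EtpbcB.GammaRpush

variable {k : Type u} [Field k] [IsSepClosed k] {X : Scheme.{u}} (a : X ⟶ Spec (CommRingCat.of k))
  (F : EtCoh.Ab X) (q : ℕ)

theorem isZero_Rpush (h : Subsingleton (EtCoh.H X F q)) : IsZero ((EtCoh.Rpush a q).obj F) := by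
  refine Groth.Agent.Etcore.Stalks.isZero_of_stalks _ fun x => ?_
  refine ⟨k, inferInstance, inferInstance, pt k, ?_, ?_⟩
  · exact Subsingleton.elim _ _
  · obtain ⟨e⟩ := stalk_id_Rpush a F q
    exact @AddCommGrpCat.isZero_of_subsingleton _ e.toEquiv.subsingleton

theorem subsingleton_H (h : IsZero ((EtCoh.Rpush a q).obj F)) : Subsingleton (EtCoh.H X F q) := by
  obtain ⟨e⟩ := stalk_id_Rpush a F q
  have h1 : IsZero ((EtCoh.stalk (pt k)).obj ((EtCoh.Rpush a q).obj F)) :=
    (EtCoh.stalk (pt k)).map_isZero h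
  have h2 := AddCommGrpCat.subsingleton_of_isZero h1
  exact e.symm.toEquiv.subsingleton

end Groth.Agent.Sga4h.H137.HR
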