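import Groth.Agent.Sga4h.H137.NP
import Groth.Agent.Sga4h.H137.GmGeo
import Groth.Agent.Sga4h.H137.HR
import Groth.Agent.Sga4h.H929.ASC

/-!
# (D2): `H^0_c(G_m, N F) = 0` if `H^0(G_m, F) = 0`
-/

set_option autoImplicit false
universe u

open CategoryTheory CategoryTheory.Limits AlgebraicGeometry Opposite Polynomial
open scoped LaurentPolynomial

namespace Groth.Agent.Sga4h.H137.CurveD2

open EtCoh Groth.Agent.Sga4h.H929.NDef Groth.Agent.Sga4h.H929.NSplit Groth.Agent.Sga4h.H137.NP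
open Groth.Agent.Sga4h.H137.GmGeo

/-- `N_p F` has no sections vanishing generically if `F` has none. -/
theorem np_N {X Y : Scheme.{u}} [IrreducibleSpace X] {p : Y ⟶ X} {d : ℕ} (h : FE p d) {n : ℕ}
    (hdn : d.Coprime n) {F : Ab X} (hF : KilledBy n F) (hNP : NP F) : NP ((N p).obj F) := by
  obtain ⟨s⟩ := h.nonempty_splitting hdn hF
  have := h.et
  have h1 : NP ((push p).obj ((pull p).obj F)) := hNP.push_pull p
  have h2 : Mono (s.s ≫ (Nπ p).app F) := by
    have h3 := s.s_g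
    exact h3 ▸ (inferInstance : Mono (𝟙 _))
  have h4 : Mono s.s := mono_of_mono s.s ((Nπ p).app F)
  exact h1.of_mono s.s

variable {K : Type u} [Field K] [IsAlgClosed K] {p e : ℕ} [hp : Fact p.Prime]

/-- **(D2)** -/
theorem d2 (hpK : (p : K) = 0) (he : 1 ≤ e) {n : ℕ} (hn : (n : K) ≠ 0)
    (F : Ab (Spec (CommRingCat.of K[T;T⁻¹]))) (hFn : KilledBy n F)
    (h0 : IsZero ((Rpush (ι K ≫ str K) 0).obj F)) (g : K[T;T⁻¹]) {P : Scheme.{u}}
    (j : Spec (CommRingCat.of K[T;T⁻¹]) ⟶ P) [IsOpenImmersion j]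
    (f : P ⟶ Spec (CommRingCat.of K)) [IsProper f] (w : j ≫ f = ι K ≫ str K) :
    IsZero ((Rpush f 0).obj ((EtShriek.extZero j).obj ((asN (p ^ e) g).obj F))) := by
  have hp2 : 2 ≤ p ^ e := calc
    2 ≤ p := hp.out.two_le
    _ = p ^ 1 := (pow_one p).symm
    _ ≤ p ^ e := Nat.pow_le_pow_right hp.out.pos he
  have hpA : ((p ^ e : ℕ) : K[T;T⁻¹]) = 0 := by
    have h1 : (p : K[T;T⁻¹]) = 0 := by
      rw [← map_natCast (algebraMap K K[T;T⁻¹]), hpK, map_zero]
    rw [Nat.cast_pow, h1, zero_pow (by omega)]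
  have hcop : (p ^ e).Coprime n := by
    apply Nat.Coprime.pow_left
    rw [Nat.Prime.coprime_iff_not_dvd hp.out]
    rintro ⟨m, rfl⟩
    exact hn (by rw [Nat.cast_mul, hpK, zero_mul])
  have hNP : NP F :=
    np_of_H0 (aG K) (isClosed_singleton K) F (HR.subsingleton_H (aG K) F 0 h0)
  have hNP' : NP ((asN (p ^ e) g).obj F) :=
    np_N (Groth.Agent.Sga4h.H929.ASC.fe_asc g hp2 hpA) hcop hFn hNP
  exact HR.isZero_Rpush f _ 0 (subsingleton_H0 j hNP' (not_isClosed_range K j f w))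

end Groth.Agent.Sga4h.H137.CurveD2
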