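import Groth.Agent.Sga4h.H137.P1
import Groth.Agent.Sga4h.OpenClosed
import Groth.Agent.Sga4h.TotImm
import Groth.Agent.Sga4h.RPairDer
import Groth.Agent.Etrest.FLCLocal
import Groth.Agent.Sga4B.ShriekTools
import Groth.Agent.Sga4h.H929.NDef

/-!
# (D1): vanishing at infinity of a sheaf on the affine line without cohomology

If `H^*(A¹, T) = 0` and `H_c^*(A¹, T) = 0` then `(R v_* T)_∞ = 0`.
-/

set_option autoImplicit false
universe u
open CategoryTheory CategoryTheory.Limits AlgebraicGeometry Opposite Polynomial Pretriangulated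
open DerivedCategory (homologyFunctor singleFunctor)
open scoped LaurentPolynomial

attribute [local instance] HasDerivedCategory.standard

namespace Groth.Agent.Sga4h.H137.CurveD1

open EtCoh Groth.Agent.Etrest Groth.Agent.Etrest.DEtPush Groth.Agent.Sga4h.OpenClosed
open Groth.Agent.Sga4h.H929.NDef

variable {X Y W P S T : Scheme.{u}}

theorem isZero_pushD_single (f : X ⟶ Y) (F : Ab X) (h : ∀ i, IsZero ((Rpush f i).obj F)) :
    IsZero ((pushD f).obj ((singleFunctor _ 0).obj F)) := by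
  refine isZero_of_homology _ fun n => ?_
  rcases lt_or_ge n 0 with hn | hn
  · exact RDer3.isZero_HTRsingle (push f) F n hn
  · obtain ⟨i, rfl⟩ := Int.eq_ofNat_of_zero_le hn
    exact (h i).of_iso ((RDer3.HTRsingle (push f) i).app F)

theorem nonempty_pull_push (j : X ⟶ Y) [IsOpenImmersion j] (K : DCoh.DEt X) :
    Nonempty ((pullD j).obj ((pushD j).obj K) ≅ K) := by
  have h : TotCat.IsC (TotCat.arr (x := ⟨X, K⟩) (y := ⟨Y, (pushD j).obj K⟩) j
      ((dPullPush j).counit.app K)) :=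
    TotCat.imm_of_isOpenImmersion j _ _ _ rfl (RPair.isUniv_TR (EtCoh.pullPushAdj j) K)
  have h' : IsIso ((dPullPush j).counit.app K) := h
  exact ⟨asIso ((dPullPush j).counit.app K)⟩

theorem isZero_pull_rpush (w : W ⟶ P) [IsOpenImmersion w] (t : T ⟶ P) [IsClosedImmersion t]
    (hwt : Set.range w = (Set.range t)ᶜ) (p : P ⟶ S) [IsFinite (t ≫ p)] (F : Ab W)
    (h1 : ∀ i, IsZero ((Rpush (w ≫ p) i).obj F))
    (h2 : ∀ i, IsZero ((Rpush p i).obj ((EtShriek.extZero w).obj F))) (i : ℕ) :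
    IsZero ((pull t).obj ((Rpush w i).obj F)) := by
  obtain ⟨e1⟩ := nonempty_pull_push w ((singleFunctor _ 0).obj F)
  obtain ⟨C, g, δ, hT, hC⟩ := exists_localization w ((pushD w).obj ((singleFunctor _ 0).obj F))
  have e2 : (shriekD w).obj ((pullD w).obj ((pushD w).obj ((singleFunctor _ 0).obj F))) ≅
      (singleFunctor _ 0).obj ((EtShriek.extZero w).obj F) :=
    (shriekD w).mapIso e1 ≪≫ ((EtShriek.extZero w).mapDerivedCategorySingleFunctor 0).app F
  have h3 : IsZero ((pushD p).obj ((shriekD w).obj ((pullD w).obj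
      ((pushD w).obj ((singleFunctor _ 0).obj F))))) :=
    (isZero_pushD_single p _ h2).of_iso ((pushD p).mapIso e2)
  have h4 : IsZero ((pushD p).obj ((pushD w).obj ((singleFunctor _ 0).obj F))) :=
    (isZero_pushD_single (w ≫ p) F h1).of_iso ((pushDComp (rfl : w ≫ p = w ≫ p)).app _)
  have h5 : IsZero ((pushD p).obj C) :=
    (Triangle.isZero₃_iff_isIso₁ _ ((pushD p).map_distinguished _ hT)).2 (h3.isIso h4 _)
  have h6 : IsZero C := isZero_of_detect t w hwt p C hC h5
  have h7 : IsIso ((shriekDAdj w).counit.app ((pushD w).obj ((singleFunctor _ 0).obj F))) :=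
    (Triangle.isZero₃_iff_isIso₁ _ hT).1 h6
  have e4 : (singleFunctor _ 0).obj ((EtShriek.extZero w).obj F) ≅
      (pushD w).obj ((singleFunctor _ 0).obj F) :=
    e2.symm ≪≫ asIso ((shriekDAdj w).counit.app ((pushD w).obj ((singleFunctor _ 0).obj F)))
  have hd : Disjoint (Set.range t) (Set.range w) := by
    rw [hwt]
    exact disjoint_compl_right
  have h8 : IsZero ((pull t).obj ((EtShriek.extZero w).obj F)) :=
    Sga4B.ShriekTools.isZero_pull_extZero w t hd F
  have h9 : IsZero ((pullD t).obj ((pushD w).obj ((singleFunctor _ 0).obj F))) :=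
    ((singleFunctor _ 0).map_isZero h8).of_iso
      ((pullD t).mapIso e4.symm ≪≫ ((pull t).mapDerivedCategorySingleFunctor 0).app _)
  exact ((isZero_pullD_iff t _).1 h9 i).of_iso
    ((pull t).mapIso ((RDer3.HTRsingle (push w) i).app F).symm)

/-- **(D1)** -/
theorem d1 {K : Type u} [Field K] (T : Ab (Spec (CommRingCat.of K[X])))
    (hH : ∀ i : ℕ, IsZero ((Rpush (str K) i).obj T))
    (hc : ∀ {P : Scheme.{u}} (j : Spec (CommRingCat.of K[X]) ⟶ P) [IsOpenImmersion j]
      (f : P ⟶ Spec (CommRingCat.of K)) [IsProper f], j ≫ f = str K →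
        ∀ i : ℕ, IsZero ((Rpush f i).obj ((EtShriek.extZero j).obj T))) (i : ℕ) :
    IsZero ((pull (zero K)).obj ((Rpush (ιinf K) i).obj ((pull (ι K)).obj T))) := by
  open Groth.Agent.EtpbcA.P1Charts in
  have hf : IsFinite (P1.inf K ≫ toB (P1.kk K)) := by
    rw [P1.inf_toB]
    infer_instance
  have h1 : IsZero ((pull (P1.inf K)).obj ((Rpush (chart 0 (P1.kk K)) i).obj T)) := by
    refine isZero_pull_rpush (chart 0 (P1.kk K)) (P1.inf K) (P1.range_chart K) (toB (P1.kk K)) T
      (fun i => ?_) (fun i => ?_) i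
    · have e : chart 0 (P1.kk K) ≫ toB (P1.kk K) = str K := chart_toB 0 _
      rw [e]
      exact hH i
    · exact hc (chart 0 (P1.kk K)) (toB (P1.kk K)) (chart_toB 0 _) i
  obtain ⟨e⟩ := FLCLocal.pull_Rpush_iso (chart 1 (P1.kk K)) (chart 0 (P1.kk K)) (ι K) (ιinf K)
    (P1.isPullback K) T i
  exact h1.of_iso ((pull (zero K)).mapIso e.symm ≪≫
    (EtpbcA.PullFLC.pullComp (zero K) (chart 1 (P1.kk K))).app _)

end Groth.Agent.Sga4h.H137.CurveD1
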