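import Groth.Agent.Sga4h.H137.P1
import Groth.Agent.Sga4h.H137.HR
import Groth.Agent.Sga4h.IntPushZero
import Groth.Agent.Sga4h.PushDer
import Groth.Agent.Etcore.OpenClosed
import Groth.Agent.EtpbcB.HShift
import Groth.Agent.S0651

/-!
# (A): `T ≅ ι_* ι^* T` if `H^i(A¹, T) = 0` (`i ≤ 1`) and `H^0(G_m, T) = 0`
-/

set_option autoImplicit false
set_option linter.unusedSectionVars false
universe u

open CategoryTheory CategoryTheory.Limits AlgebraicGeometry Opposite Polynomial
open scoped LaurentPolynomial

namespace Groth.Agent.Sga4h.H137.AB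

open EtCoh Groth.Agent.Sga4h.PushDer Groth.Agent.Sga4h.H929.NDef

section general

variable {X Z U : Scheme.{u}} {k : Type u} [Field k] [IsSepClosed k]
  (i : Z ⟶ X) [IsClosedImmersion i] (j : U ⟶ X) [IsOpenImmersion j]
  (hd : IsCompl (Set.range i) (Set.range j)) (a : X ⟶ Spec (CommRingCat.of k)) [IsIntegralHom (i ≫ a)]

include hd a in
/-- A sheaf supported on a closed subscheme finite over `k` and without sections is zero. -/
theorem isZero_of_pull (C : Ab X) (h1 : IsZero ((pull j).obj C)) (h2 : IsZero ((push a).obj C)) :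
    IsZero C := by
  have hS := Etcore.OpenClosed.shortExact i j hd C
  have h3 : IsZero ((EtShriek.restrAlong j).obj C) :=
    h1.of_iso ((Etcore.ShriekBasic.pullIsoRestr j).app C).symm
  have h4 : IsZero ((EtShriek.extZero j).obj ((EtShriek.restrAlong j).obj C)) :=
    (EtShriek.extZero j).map_isZero h3
  have hmono : Mono ((pullPushAdj i).unit.app C) := hS.exact.mono_g (h4.eq_of_src _ _)
  have h5 : Mono ((push a).map ((pullPushAdj i).unit.app C)) := inferInstance
  have hepi : Epi ((pullPushAdj i).unit.app C) := hS.epi_g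
  have hiso : IsIso ((pullPushAdj i).unit.app C) := isIso_of_mono_of_epi _
  have h6 : IsZero ((push a).obj ((push i).obj ((pull i).obj C))) :=
    h2.of_iso ((push a).mapIso (asIso ((pullPushAdj i).unit.app C))).symm
  have h7 : IsZero ((push (i ≫ a)).obj ((pull i).obj C)) := h6.of_iso ((pushComp a i).app _).symm
  have h8 : IsZero ((pull i).obj C) := IntPushZero.isZero_of_isZero_push (i ≫ a) _ h7
  exact ((push i).map_isZero h8).of_iso (asIso ((pullPushAdj i).unit.app C))

theorem isIso_pull_unit (T : Ab X) : IsIso ((pull j).map ((pullPushAdj j).unit.app T)) := by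
  have h1 := (Groth.Agent.S0651.result j ((pull j).obj T)).1
  have h2 := (pullPushAdj j).left_triangle_components T
  exact IsIso.of_isIso_fac_right (h := 𝟙 _) h2

theorem isZero_push_of_H (C : Ab X) (h : Subsingleton (H X C 0)) : IsZero ((push a).obj C) :=
  (HR.isZero_Rpush a C 0 h).of_iso ((rpushZeroIso a).app C).symm

include hd a in
/-- `T ≅ j_* j^* T` from the vanishing of `H^0(X, T)`, `H^1(X, T)`, `H^0(U, T)`. -/
theorem isIso_unit (T : Ab X) (h0 : Subsingleton (H X T 0)) (h1 : Subsingleton (H X T 1))
    (hG : Subsingleton (H U ((pull j).obj T) 0)) : IsIso ((pullPushAdj j).unit.app T) := by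
  have hi := isIso_pull_unit j T
  have hK : IsZero (kernel ((pullPushAdj j).unit.app T)) := by
    refine isZero_of_pull i j hd a _ ?_ ?_
    · have e1 : (pull j).map (kernel.ι ((pullPushAdj j).unit.app T)) = 0 := by
        rw [← cancel_mono ((pull j).map ((pullPushAdj j).unit.app T)), Limits.zero_comp, ← Functor.map_comp,
          kernel.condition, Functor.map_zero]
      exact IsZero.of_mono_eq_zero _ e1
    · have e1 : Mono ((push a).map (kernel.ι ((pullPushAdj j).unit.app T))) := inferInstance
      have e2 : (push a).map (kernel.ι ((pullPushAdj j).unit.app T)) = 0 :=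
        (isZero_push_of_H a T h0).eq_of_tgt _ _
      exact IsZero.of_mono_eq_zero _ e2
  have hmono : Mono ((pullPushAdj j).unit.app T) := Preadditive.mono_of_isZero_kernel _ hK
  have hC : IsZero (cokernel ((pullPushAdj j).unit.app T)) := by
    refine isZero_of_pull i j hd a _ ?_ ?_
    · have e1 : (pull j).map (cokernel.π ((pullPushAdj j).unit.app T)) = 0 := by
        rw [← cancel_epi ((pull j).map ((pullPushAdj j).unit.app T)), Limits.comp_zero, ← Functor.map_comp,
          cokernel.condition, Functor.map_zero]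
      exact IsZero.of_epi_eq_zero _ e1
    · refine isZero_push_of_H a _ ?_
      have hS : (ShortComplex.mk ((pullPushAdj j).unit.app T)
          (cokernel.π ((pullPushAdj j).unit.app T)) (cokernel.condition _)).ShortExact :=
        { exact := ShortComplex.exact_cokernel _
          mono_f := hmono
          epi_g := inferInstanceAs (Epi (cokernel.π _)) }
      refine EtpbcB.HShift.subsingleton_H_of_succ hS 0 h1 ?_
      -- `H^0(X, j_* j^* T) = H^0(U, j^* T)`
      have e1 : Subsingleton (sect ((pull j).obj T) (top U)) :=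
        (Sheaf.H.equiv₀ ((pull j).obj T) (EtpbcB.GammaRpush.topIsTerminal U)).symm.toEquiv.subsingleton
      have e2 : IsTerminal ((bc j).obj (top X)) := by
        exact IsTerminal.isTerminalObj (bc j) _ (EtpbcB.GammaRpush.topIsTerminal X)
      have e3 : Subsingleton (sect ((push j).obj ((pull j).obj T)) (top X)) := by
        have e4 := (((pull j).obj T).obj.mapIso
          (e2.uniqueUpToIso (EtpbcB.GammaRpush.topIsTerminal U)).op).addCommGroupIsoToAddEquiv
        exact e4.symm.toEquiv.subsingleton
      exact (Sheaf.H.equiv₀ ((push j).obj ((pull j).obj T))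
        (EtpbcB.GammaRpush.topIsTerminal X)).toEquiv.subsingleton
  have hepi : Epi ((pullPushAdj j).unit.app T) := Preadditive.epi_of_isZero_cokernel _ hC
  exact isIso_of_mono_of_epi _

end general

variable {K : Type u} [Field K]

instance isClosedImmersion_zero : IsClosedImmersion (zero K) :=
  IsClosedImmersion.spec_of_surjective _ fun c => ⟨C c, Polynomial.eval_C⟩

theorem zero_str : zero K ≫ str K = 𝟙 _ := by
  rw [zero, str, ← Spec.map_comp, ← Spec.map_id]
  congr 1
  ext b
  exact Polynomial.eval_C

open Groth.Agent.EtpbcA.P1Charts in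
theorem isCompl_range : IsCompl (Set.range (zero K)) (Set.range (ι K)) := by
  rw [P1.range_ι]
  have h : Set.range (zero K) = {w : Spec (CommRingCat.of K[X]) | (X : K[X]) ∉ w.asIdeal}ᶜ := by
    ext w
    rw [Set.mem_compl_iff, Set.mem_ofPred_eq, not_not]
    constructor
    · rintro ⟨x, rfl⟩
      change (Polynomial.evalRingHom (0 : K)) (Polynomial.X : K[X]) ∈ x.asIdeal
      simp
    · intro hw
      refine ⟨pr (P1.kk K) w, ?_⟩
      apply eq_of_X_mem (P1.kk K) _ _ _ hw
      · exact Subsingleton.elim (α := PrimeSpectrum K) _ _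
      · change (Polynomial.evalRingHom (0 : K)) (Polynomial.X : K[X]) ∈ (pr (P1.kk K) w).asIdeal
        simp
  rw [h]
  exact isCompl_compl.symm

/-- **(A)** -/
theorem isIso_unit_ι [IsSepClosed K] (T : Ab (Spec (CommRingCat.of K[X])))
    (h0 : IsZero ((Rpush (str K) 0).obj T)) (h1 : IsZero ((Rpush (str K) 1).obj T))
    (hG : IsZero ((Rpush (ι K ≫ str K) 0).obj ((pull (ι K)).obj T))) :
    IsIso ((pullPushAdj (ι K)).unit.app T) := by
  have hz : IsIntegralHom (zero K ≫ str K) := by
    rw [zero_str]
    infer_instance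
  exact isIso_unit (zero K) (ι K) isCompl_range (str K) T (HR.subsingleton_H (str K) T 0 h0)
    (HR.subsingleton_H (str K) T 1 h1) (HR.subsingleton_H (ι K ≫ str K) _ 0 hG)

theorem isIso_unit_of_WA [IsSepClosed K] {n : ℕ} {T : Ab (Spec (CommRingCat.of K[X]))} (hT : WA n T) :
    IsIso ((pullPushAdj (ι K)).unit.app T) :=
  isIso_unit_ι T (hT.hH 0) (hT.hH 1) hT.hG

end Groth.Agent.Sga4h.H137.AB
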