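import Groth.Agent.Sga4h.H918.CharGen
import Groth.Agent.Sga4h.H918.SpecCov
import Groth.Agent.Sga4h.H299.LamMod
import Groth.Agent.Sga4h.H929.ASC
import Groth.Agent.Sga4h.H582.ASSec

/-!
# Artin–Schreier sheaves are the sheaves `F_θ(g, 1)`

* `exists_iso_F`: a rank one sheaf on `Spec R` which becomes constant on the (connected) Artin–Schreier covering
  `z ^ q - z = g` is `F_θ(g, 1)` for a character `θ` of `k`;
* `mvPoly`: for the Artin–Schreier sheaf of `ψ(x_1 + ⋯ + x_n)`, `ψ ≠ 1`, `n ≥ 1`, the character is nontrivial.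
-/

set_option autoImplicit false
universe u

open CategoryTheory CategoryTheory.Limits AlgebraicGeometry Opposite Polynomial

namespace Groth.Agent.Sga4h.H137.E4

open Groth.Agent.Etbase Groth.Agent.Etcore Groth.Agent.EtpbcA Groth.Agent.Etcore.LVan
open Groth.Agent.Sga4h.H918 Gen Tw Ask Root Lang SpecCov CharGen
open Groth.Agent.Sga4h.H929
open Groth.Agent.Sga4h.H299 LamMod Scal
open Groth.Agent.Etrest.ModAb

section cover

variable {k : Type u} [Field k] [Fintype k] {R : Type u} [CommRing R] [Algebra k R] (g : R)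

theorem card_zero' : ((Fintype.card k : ℕ) : R) = 0 := by
  rw [← map_natCast (algebraMap k R), FiniteField.cast_card_eq_zero, map_zero]

instance etale_asc : Etale (LangSh.cover R (LangSh.ASAlg R (Fintype.card k) g)) :=
  (ASC.fe_asc g Fintype.one_lt_card (card_zero' (k := k))).et

/-- The Artin–Schreier covering. -/
noncomputable def T0 (k : Type u) [Field k] [Fintype k] {R : Type u} [CommRing R] [Algebra k R] (g : R) :
    (Spec (CommRingCat.of R)).Etale :=
  haveI : Etale (LangSh.cover R (LangSh.ASAlg R (Fintype.card k) g)) := etale_asc (k := k) g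
  Scheme.Etale.mk (LangSh.cover R (LangSh.ASAlg R (Fintype.card k) g))

/-- The root. -/
noncomputable def z0 (k : Type u) [Field k] [Fintype k] {R : Type u} [CommRing R] [Algebra k R] (g : R) :
    Γ((T0 k g).left, ⊤) :=
  gm (LangSh.ASAlg R (Fintype.card k) g) (AdjoinRoot.root _)

theorem isRoot0 : IsRoot (show (T0 k g).left ⟶ Spec (CommRingCat.of R) from (T0 k g).hom)
    (PA (Fintype.card k) (gm R g)) (z0 k g) := by
  have h := isRoot_spec (X ^ Fintype.card k - X - C g : R[X])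
  have e : (X ^ Fintype.card k - X - C g : R[X]).map (gm R) = PA (Fintype.card k) (gm R g) := by
    rw [Polynomial.map_sub, Polynomial.map_sub, Polynomial.map_pow, map_X, map_C]
  rw [e] at h
  exact h

theorem eq_z0 : z0 k g ^ Fintype.card k - z0 k g = fb (T0 k g) (gm R g) :=
  (eval_PA _ _ _ _).1 (isRoot0 g).eval_eq

theorem exists_hom0 (W : (Spec (CommRingCat.of R)).Etale) (z' : Γ(W.left, ⊤))
    (hz : z' ^ Fintype.card k - z' = fb W (gm R g)) : ∃ a : W ⟶ T0 k g, pb a (z0 k g) = z' := by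
  obtain ⟨a, h1, h2⟩ := (isRoot0 (k := k) g).exists_lift (show W.left ⟶ _ from W.hom) z'
    ((eval_PA _ _ _ _).2 hz)
  exact ⟨MorphismProperty.Over.homMk a h1, h2⟩

theorem hom_ext0 {W : (Spec (CommRingCat.of R)).Etale} {a b : W ⟶ T0 k g}
    (hz : pb a (z0 k g) = pb b (z0 k g)) : a = b := by
  apply MorphismProperty.Over.Hom.ext
  exact (isRoot0 (k := k) g).uniq _ _ ((MorphismProperty.Over.w a).trans (MorphismProperty.Over.w b).symm) hz

variable {Λ : Type (u + 1)} [CommRing Λ]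

/-- A rank one sheaf trivialised by the connected Artin–Schreier covering of `g` is `F_θ(g, 1)`. -/
theorem exists_iso_F [ConnectedSpace (Spec (CommRingCat.of (LangSh.ASAlg R (Fintype.card k) g)))]
    (L : EtModW.Mod Λ (Spec (CommRingCat.of R)))
    (e : Nonempty ((EtModW.pull Λ (LangSh.cover R (LangSh.ASAlg R (Fintype.card k) g))).obj L ≅
      EtModW.constMod Λ _ Λ)) :
    ∃ θ : Multiplicative k →* Λˣ, Nonempty (L ≅ F ((gm R).comp (algebraMap k R))
      (θ.comp (MonoidHom.fst (Multiplicative k) kˣ)) (gm R g) 1 isUnit_one) := by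
  let ρ : k →+* Γ(Spec (CommRingCat.of R), ⊤) := (gm R).comp (algebraMap k R)
  let T : Tor ρ (gm R g) 1 := tor ρ (gm R g) 1 isUnit_one
  obtain ⟨e⟩ := e
  have hconn : ConnectedSpace (T0 k g).left := ‹_›
  obtain ⟨s, hs⟩ := exists_gen_of_pull (T0 k g) e
  obtain ⟨m, hm⟩ := exists_hom0 g T.T T.z T.eq_z
  obtain ⟨i, hi1, hi2⟩ := T.exists_hom (T0 k g) (z0 k g) 1 (eq_z0 g) (by rw [one_pow, map_one])
  let act0 : Multiplicative k → (T0 k g ⟶ T0 k g) := fun c => i ≫ T.act (c, 1) ≫ m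
  have hact : ∀ c, pb (act0 c) (z0 k g) = z0 k g + Tor.cst ρ (T0 k g) (Multiplicative.toAdd c) := by
    intro c
    rw [pb_comp, pb_comp, hm, T.act_z, map_add, hi1, Tor.pb_cst]
  have hone : act0 1 = 𝟙 _ := by
    apply hom_ext0
    rw [hact]
    change z0 k g + Tor.cst ρ (T0 k g) (0 : k) = z0 k g
    rw [map_zero, add_zero]
  have hmul : ∀ c d, act0 (c * d) = act0 c ≫ act0 d := by
    intro c d
    apply hom_ext0
    rw [hact, pb_comp, hact, map_add, hact, Tor.pb_cst]
    change z0 k g + Tor.cst ρ (T0 k g) (Multiplicative.toAdd c + Multiplicative.toAdd d) = _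
    rw [map_add, add_assoc]
  have hcomm : ∀ a : GG k, T.act a ≫ m = m ≫ act0 a.1 := by
    intro a
    apply hom_ext0
    rw [pb_comp, hm, T.act_z, pb_comp, hact, map_add, hm, Tor.pb_cst]
  have h1 : ∀ c, ∃ r : Λ, res L (act0 c) s = r • s := by
    intro c
    obtain ⟨r, hr⟩ := exists_smul hs (𝟙 _) (res L (act0 c) s)
    rw [res_id] at hr
    exact ⟨r, hr⟩
  choose r hr using h1
  have hinj : ∀ {a b : Λ}, a • s = b • s → a = b := by
    intro a b h
    apply smul_injective hs (𝟙 _)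
    rw [res_id]; exact h
  have h2 : r 1 = 1 := by
    apply hinj
    rw [← hr, hone, res_id, one_smul]
  have h3 : ∀ c d, r (c * d) = r c * r d := by
    intro c d
    apply hinj
    rw [← hr, hmul, res_comp, hr d, map_smul, hr c, smul_smul, mul_comm]
  let θ : Multiplicative k →* Λˣ := MonoidHom.toHomUnits ⟨⟨r, h2⟩, h3⟩
  have h4 : HasGen L (T0 k g) act0 (fun c => ((θ c : Λˣ) : Λ)) := ⟨s, hs, hr⟩
  have h5 : HasGen L T.T T.act (fun a => ((θ a.1 : Λˣ) : Λ)) := h4.res m Prod.fst hcomm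
  exact ⟨θ, nonempty_iso_F T (θ.comp (MonoidHom.fst (Multiplicative k) kˣ)) h5⟩

end cover

section const

variable {Λ : Type} [CommRing Λ] {X : Scheme.{u}}

/-- A `Λ`-sheaf which is constant of rank one as a sheaf of modules. -/
theorem isConst_of_iso (L : EtLam.Sheaf Λ X)
    (e : Nonempty (toMod L ≅ EtModW.constMod (UL.{u} Λ) X (UL.{u} Λ))) : H917.Desc.IsConst L := by
  obtain ⟨e⟩ := e
  let e' : toMod L ≅ toMod (FinFr.constLam Λ X) := e ≪≫ toModConst X
  refine ⟨(ab (UL.{u} Λ) X).mapIso e', fun r => ?_⟩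
  have h1 : scal (ULift.up r) (toMod L) ≫ e'.hom = e'.hom ≫ scal (ULift.up r) (toMod (FinFr.constLam Λ X)) := by
    apply Sheaf.hom_ext
    ext U x
    exact ((e'.hom.hom.app U).hom.map_smul (ULift.up r) x)
  have h2 := congrArg (ab (UL.{u} Λ) X).map h1
  rw [Functor.map_comp, Functor.map_comp] at h2
  exact h2

end const

section mv

variable {k K : Type u} [Field k] [Fintype k] [Field K] [Algebra k K] [Algebra.IsAlgebraic k K]
  [Fact FinFr.PullExact.{u}] {Λ : Type} [Field Λ]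

/-- The Artin–Schreier sheaf of `ψ(x_1 + ⋯ + x_n)`. -/
theorem mvPoly (n : ℕ) (hn : n ≠ 0) (ψ : AddChar k Λ) (hψ : ψ ≠ 1)
    (L : EtLam.Sheaf Λ (Spec (CommRingCat.of (MvPolynomial (Fin n) k))))
    (hL : LangSh.IsASSheaf K ψ (∑ i, MvPolynomial.X i) L) :
    ∃ θ : Multiplicative k →* (ULift.{u + 1} Λ)ˣ, θ ≠ 1 ∧ Nonempty (toMod L ≅
      F ((gm (MvPolynomial (Fin n) k)).comp (algebraMap k (MvPolynomial (Fin n) k)))
        (θ.comp (MonoidHom.fst (Multiplicative k) kˣ))
        (gm (MvPolynomial (Fin n) k) (∑ i : Fin n, MvPolynomial.X i)) 1 isUnit_one) := by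
  have hcon := H582.ASSec.connectedSpace_mv k n hn (Fintype.card k)
  obtain ⟨θ, ⟨e⟩⟩ := exists_iso_F (k := k) (∑ i : Fin n, MvPolynomial.X i : MvPolynomial (Fin n) k) (toMod L)
    (nonempty_of_isConstOn _ L hL.1)
  refine ⟨θ, fun hθ => hψ ?_, ⟨e⟩⟩
  have hc : H917.Desc.IsConst L := by
    apply isConst_of_iso
    obtain ⟨e1⟩ := trivF_right (ρ := (gm (MvPolynomial (Fin n) k)).comp (algebraMap k (MvPolynomial (Fin n) k)))
      (f := gm (MvPolynomial (Fin n) k) (∑ i : Fin n, MvPolynomial.X i))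
      (θ.comp (MonoidHom.fst (Multiplicative k) kˣ)) (fun c => by rw [hθ]; rfl)
    exact ⟨e ≪≫ e1⟩
  obtain ⟨a, ha⟩ := hc
  -- the pull-back to `K`
  have h1 : H917.Desc.IsConst (EtLam.pullback (Spec.map (CommRingCat.ofHom
      (MvPolynomial.map (σ := Fin n) (algebraMap k K)))) L) := by
    refine ⟨(EtCoh.pull _).mapIso a ≪≫ EtCore.pullConst _ Λ, fun r => ?_⟩
    have h1 : (EtCoh.pull (Spec.map (CommRingCat.ofHom
        (MvPolynomial.map (σ := Fin n) (algebraMap k K))))).map (L.act r) ≫ (EtCoh.pull _).map a.hom =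
        (EtCoh.pull _).map a.hom ≫ (EtCoh.pull _).map (FinFr.constSMul _ r) := by
      rw [← Functor.map_comp, ← Functor.map_comp, ha]
    have h2 : (EtCoh.pull (Spec.map (CommRingCat.ofHom
        (MvPolynomial.map (σ := Fin n) (algebraMap k K))))).map (FinFr.constSMul _ r) ≫ (EtCore.pullConst _ Λ).hom =
        (EtCore.pullConst _ Λ).hom ≫ FinFr.constSMul _ r :=
      (EtCore.pullConstIso _).hom.naturality _
    change (EtCoh.pull _).map (L.act r) ≫ (EtCoh.pull _).map a.hom ≫ (EtCore.pullConst _ Λ).hom = _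
    rw [← Category.assoc, h1, Category.assoc, h2, Iso.trans_hom, Category.assoc]
    rfl
  refine H582.ASSec.eq_one_of_isConst (H582.ASSec.isPullback_mv (k := k) (K := K) n) ψ (∑ i, MvPolynomial.X i)
    (fun b => ?_) L hL.2 h1
  obtain ⟨m, rfl⟩ := Nat.exists_eq_succ_of_ne_zero hn
  refine ⟨MvPolynomial.aeval (fun i : Fin (m + 1) => if i = 0 then algebraMap k _ b else 0), ?_⟩
  rw [map_sum]
  simp only [MvPolynomial.aeval_X, Finset.sum_ite_eq', Finset.mem_univ, if_true]

end mv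

end Groth.Agent.Sga4h.H137.E4
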