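import Groth.Agent.Sga4h.H920.NoPunct
import Groth.Agent.Sga4B.SuppPull
import Groth.Agent.Etrest.Supp
import Groth.Agent.Etcore.ShriekBasic
import Groth.Agent.Etcore.ShriekUnique
import Groth.Agent.EtpbcB.GammaRpush
import Groth.Agent.Sga4h.EtaleRes

/-!
# Sheaves without sections vanishing generically

* `NP F`: a section of `F` over an étale scheme which vanishes over the generic point is zero;
* stability: subobjects, `p_* p^*` for `p` étale;
* `np_of_H0`: no global sections on a curve;
* `sect_eq_zero`: then `j_! F` has no global sections if `j` does not have a closed image.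
-/

set_option autoImplicit false
set_option linter.dupNamespace false
universe u

open CategoryTheory CategoryTheory.Limits AlgebraicGeometry Opposite Topology

namespace Groth.Agent.Sga4h.H137.NP

open EtCoh EtShriek Groth.Agent.Etrest.Supp

variable {X Y P : Scheme.{u}}

/-- Sections over étale schemes vanishing over the generic point are zero. -/
def NP [IrreducibleSpace X] (F : Ab X) : Prop :=
  ∀ (U : X.Etale) (s : sect F U),
    (∀ x : U.left, U.hom x = genericPoint X → x ∉ sectSupp F U s) → s = 0

theorem NP.of_mono [IrreducibleSpace X] {F G : Ab X} (φ : F ⟶ G) [Mono φ] (h : NP G) : NP F := by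
  intro U s hs
  have hinj : Function.Injective (φ.hom.app (op U)) :=
    Groth.Agent.EtpbcA.SubSheaf.injective_app_of_mono φ U
  apply hinj
  rw [map_zero]
  exact h U _ fun x hx hx' => hs x hx (sectSupp_map_subset φ U s hx')

theorem NP.of_iso [IrreducibleSpace X] {F G : Ab X} (e : F ≅ G) (h : NP G) : NP F :=
  h.of_mono e.hom

theorem np_of_H0 {K : Type u} [Field K] [IsSepClosed K] [IrreducibleSpace X]
    (a : X ⟶ Spec (CommRingCat.of K)) [LocallyOfFiniteType a] [QuasiCompact a]
    (hdim : ∀ x : X, x ≠ genericPoint X → IsClosed ({x} : Set X)) (F : Ab X)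
    (h0 : Subsingleton (H X F 0)) : NP F :=
  fun U s hs => H920.NoPunct.eq_zero_of_supp_closed a F h0 U s fun x hx =>
    hdim _ fun hgen => hs x hgen hx

theorem NP.push_restr [IrreducibleSpace X] (p : Y ⟶ X) [Etale p] [JCont p] {F : Ab X} (h : NP F) :
    NP ((push p).obj ((restrAlong p).obj F)) := by
  intro U s hs
  refine h ((compEtale p).obj ((bc p).obj U)) s fun x' hx' => ?_
  have hx : U.hom (prV p U x') = genericPoint X := by
    refine Eq.trans ?_ hx'
    exact (Scheme.Hom.comp_apply (prV p U) U.hom x').symm.trans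
      (congrArg (fun k : ((bc p).obj U).left ⟶ X => k x') pullback.condition)
  have h1 := hs _ hx
  obtain ⟨V, g, v, hv, e⟩ := (notMem_sectSupp_iff _ _ _ _).1 h1
  obtain ⟨w, hw1, -⟩ := Scheme.exists_preimage_of_isPullback (isPullback_bc_map p g) x' v hv.symm
  exact (notMem_sectSupp_iff _ _ _ _).2 ⟨_, (compEtale p).map ((bc p).map g), w, hw1, e⟩

theorem NP.push_pull [IrreducibleSpace X] (p : Y ⟶ X) [Etale p] {F : Ab X} (h : NP F) :
    NP ((push p).obj ((pull p).obj F)) :=
  have : JCont p := EtaleRes.jCont p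
  NP.of_iso ((push p).mapIso ((Etcore.ShriekBasic.pullIsoRestr p).app F)) (h.push_restr p)

theorem notMem_sectSupp_extZero (j : X ⟶ P) [IsOpenImmersion j] (F : Ab X) (U : P.Etale)
    (s : sect ((extZero j).obj F) U) (x : U.left) (hx : U.hom x ∉ Set.range j) :
    x ∉ sectSupp ((extZero j).obj F) U s := by
  have h1 : U.hom x ∉ EtPBC.supp ((extZero j).obj F) := by
    intro h
    obtain ⟨Ω, _, _, ξ, hξ⟩ := Etcore.Stalks.exists_geom (U.hom x)
    refine (EtpbcA.Artin.mem_supp_iff _ (U.hom x) ξ ((EtpbcA.Artin.range_eq_iff ξ (U.hom x)).2 hξ)).1 h ?_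
    exact Etcore.ShriekUnique.isZero_stalk_extZero' j ξ (by rwa [hξ]) F
  obtain ⟨W, g, ⟨w, hw⟩, e⟩ := (EtpbcA.Artin.not_mem_supp_iff _ _).1 h1 U s x rfl
  exact (notMem_sectSupp_iff _ _ _ _).2 ⟨W, g, w, hw, e⟩

theorem sect_eq_zero [IrreducibleSpace X] (j : X ⟶ P) [IsOpenImmersion j] {F : Ab X} (hF : NP F)
    (x : P) (hx : x ∈ closure (Set.range j)) (hx' : x ∉ Set.range j)
    (s : sect ((extZero j).obj F) (top P)) : s = 0 := by
  have hgen : j (genericPoint X) ∉ sectSupp ((extZero j).obj F) (top P) s := by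
    have hO : IsOpen (sectSupp ((extZero j).obj F) (top P) s)ᶜ :=
      (isClosed_sectSupp _ _ _).isOpen_compl
    obtain ⟨y, hy, ⟨z, hz⟩⟩ := mem_closure_iff.1 hx _ hO (notMem_sectSupp_extZero j F (top P) s x hx')
    have h2 : IsOpen (j ⁻¹' (sectSupp ((extZero j).obj F) (top P) s)ᶜ) := hO.preimage j.continuous
    have h3 : z ∈ j ⁻¹' (sectSupp ((extZero j).obj F) (top P) s)ᶜ := by
      change (j z : P) ∈ (sectSupp ((extZero j).obj F) (top P) s)ᶜ
      rw [hz]
      exact hy
    exact (genericPoint_specializes z).mem_open h2 h3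
  have e : (pull j).obj ((extZero j).obj F) ≅ F :=
    (Etcore.ShriekBasic.pullIsoRestr j).app _ ≪≫ (asIso ((extZeroAdj j).unit.app F)).symm
  have hNP : NP ((pull j).obj ((extZero j).obj F)) := NP.of_iso e hF
  have hsupp := Sga4B.SuppPull.sectSupp_unit j ((extZero j).obj F) (top P) s
  have hfst : ∀ y : ((bc j).obj (top P)).left,
      (pullback.fst (top P).hom j : ((bc j).obj (top P)).left ⟶ (top P).left) y =
        j (((bc j).obj (top P)).hom y) := by
    intro y
    rw [← Scheme.Hom.comp_apply]
    exact congrArg (fun k : ((bc j).obj (top P)).left ⟶ P => k y)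
      ((Category.comp_id _).symm.trans pullback.condition)
  have h0 := hNP ((bc j).obj (top P))
    (((pullPushAdj j).unit.app ((extZero j).obj F)).hom.app (op (top P)) s) (by
      intro y hy hy2
      have h5 : ((pullback.fst (top P).hom j : ((bc j).obj (top P)).left ⟶ (top P).left) y : P) ∈
          sectSupp ((extZero j).obj F) (top P) s := (Set.ext_iff.1 hsupp y).1 hy2
      have h6 : ((pullback.fst (top P).hom j : ((bc j).obj (top P)).left ⟶ (top P).left) y : P) =
          j (genericPoint X) := (hfst y).trans (congrArg j hy)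
      exact hgen (h6 ▸ h5))
  rw [← sectSupp_eq_empty_iff, Set.eq_empty_iff_forall_notMem]
  intro y hy
  by_cases hyj : y ∈ Set.range j
  · obtain ⟨z, hz⟩ := hyj
    rw [h0, sectSupp_zero] at hsupp
    obtain ⟨w, hw, -⟩ := Scheme.Pullback.exists_preimage_pullback (f := (top P).hom) (g := j) y z hz.symm
    have h7 : ((pullback.fst (top P).hom j : ((bc j).obj (top P)).left ⟶ (top P).left) w : P) ∈
        sectSupp ((extZero j).obj F) (top P) s := by
      have h8 : ((pullback.fst (top P).hom j : ((bc j).obj (top P)).left ⟶ (top P).left) w : P) = y := hw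
      rw [h8]
      exact hy
    exact (Set.ext_iff.1 hsupp w).2 h7
  · exact notMem_sectSupp_extZero j F (top P) s y hyj hy

theorem subsingleton_H0 [IrreducibleSpace X] (j : X ⟶ P) [IsOpenImmersion j] {F : Ab X} (hF : NP F)
    (hj : ¬ IsClosed (Set.range j)) : Subsingleton (H P ((extZero j).obj F) 0) := by
  obtain ⟨x, hx, hx'⟩ : ∃ x, x ∈ closure (Set.range j) ∧ x ∉ Set.range j := by
    by_contra h
    push Not at h
    exact hj (isClosed_of_closure_subset h)
  have h1 : Subsingleton (sect ((extZero j).obj F) (top P)) :=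
    ⟨fun s t => by rw [sect_eq_zero j hF x hx hx' s, sect_eq_zero j hF x hx hx' t]⟩
  exact (Sheaf.H.equiv₀ ((extZero j).obj F) (EtpbcB.GammaRpush.topIsTerminal P)).toEquiv.subsingleton

end Groth.Agent.Sga4h.H137.NP
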