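import Groth.Agent.EtpbcA.P1Charts
import Groth.Agent.Sga4h.H929.NDef

/-!
# The two charts of the projective line and `G_m`

* `isPullback K : IsPullback (ι K) (ιinf K) (chart 0 K) (chart 1 K)`;
* `inf K : Spec K ⟶ P¹` (the origin of the second chart), a closed immersion with image the complement
  of the first chart.
-/

set_option autoImplicit false
universe u

open CategoryTheory CategoryTheory.Limits AlgebraicGeometry Opposite Polynomial
open scoped LaurentPolynomial

namespace Groth.Agent.Sga4h.H137.P1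

open Groth.Agent.EtpbcA.P1Charts Groth.Agent.CycB.P1Chart Groth.Agent.Sga4h.H929.NDef

variable (K : Type u) [Field K]

/-- `K` as a ring -/
noncomputable abbrev kk : CommRingCat.{u} := CommRingCat.of K

instance isProper_toB : IsProper (toB (kk K)) := Groth.Agent.Dix.ProjProper.isProper_toBase 1 (Spec (kk K))

instance isOpenImmersion_ι : IsOpenImmersion (ι K) :=
  IsOpenImmersion.of_isLocalization (S := K[T;T⁻¹]) (X : K[X])

theorem range_ι : Set.range (ι K) = {w : Spec (CommRingCat.of K[X]) | (X : K[X]) ∉ w.asIdeal} :=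
  PrimeSpectrum.localization_away_comap_range K[T;T⁻¹] (X : K[X])

/-- The inversion of `G_m`. -/
noncomputable def inv : Spec (CommRingCat.of K[T;T⁻¹]) ⟶ Spec (CommRingCat.of K[T;T⁻¹]) :=
  Spec.map (CommRingCat.ofHom (LaurentPolynomial.invert : K[T;T⁻¹] ≃ₐ[K] K[T;T⁻¹]).toRingEquiv.toRingHom)

instance : IsIso (inv K) := by
  unfold inv
  have : IsIso (CommRingCat.ofHom (LaurentPolynomial.invert : K[T;T⁻¹] ≃ₐ[K] K[T;T⁻¹]).toRingEquiv.toRingHom) :=
    (ConcreteCategory.isIso_iff_bijective _).2 (LaurentPolynomial.invert : K[T;T⁻¹] ≃ₐ[K] K[T;T⁻¹]).bijective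
  infer_instance

theorem ιinf_eq : ιinf K = inv K ≫ ι K := by
  rw [inv, ι, ιinf, ← Spec.map_comp]
  congr 1
  apply CommRingCat.hom_ext
  apply Polynomial.ringHom_ext
  · intro c
    change Polynomial.aeval _ (Polynomial.C c) =
      LaurentPolynomial.invert (Polynomial.toLaurent (Polynomial.C c))
    rw [Polynomial.toLaurent_C, LaurentPolynomial.invert_C, Polynomial.aeval_C]
    rfl
  · change Polynomial.aeval _ Polynomial.X =
      LaurentPolynomial.invert (Polynomial.toLaurent (Polynomial.X : K[X]))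
    rw [Polynomial.toLaurent_X, LaurentPolynomial.invert_T, Polynomial.aeval_X]

instance isOpenImmersion_ιinf : IsOpenImmersion (ιinf K) := by
  rw [ιinf_eq]
  infer_instance

theorem range_ιinf : Set.range (ιinf K) = {w : Spec (CommRingCat.of K[X]) | (X : K[X]) ∉ w.asIdeal} := by
  rw [ιinf_eq, ← range_ι]
  have : Function.Surjective (inv K) := (inv K).surjective
  ext w
  constructor
  · rintro ⟨t, rfl⟩
    exact ⟨inv K t, (Scheme.Hom.comp_apply _ _ _).symm⟩
  · rintro ⟨t, rfl⟩
    obtain ⟨s, rfl⟩ := this t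
    exact ⟨s, Scheme.Hom.comp_apply _ _ _⟩

theorem w : ι K ≫ (chart 0 (kk K) : AA (kk K) ⟶ PP (kk K)) = ιinf K ≫ chart 1 (kk K) := by
  have h0 := map_pt (CommRingCat.ofHom (Polynomial.toLaurent : K[X] →+* K[T;T⁻¹])) 0 (pr (kk K))
    (Polynomial.X : K[X])
  have h1 := map_pt (CommRingCat.ofHom
    (Polynomial.aeval (LaurentPolynomial.T (-1) : K[T;T⁻¹])).toRingHom) 1 (pr (kk K)) (Polynomial.X : K[X])
  have e0 : (CommRingCat.ofHom (Polynomial.toLaurent : K[X] →+* K[T;T⁻¹])).hom (Polynomial.X : K[X]) =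
      LaurentPolynomial.T 1 := Polynomial.toLaurent_X
  have e1 : (CommRingCat.ofHom
      (Polynomial.aeval (LaurentPolynomial.T (-1) : K[T;T⁻¹])).toRingHom).hom (Polynomial.X : K[X]) =
      LaurentPolynomial.T (-1) := Polynomial.aeval_X _
  rw [e0] at h0
  rw [e1] at h1
  have eb : ιinf K ≫ pr (kk K) = ι K ≫ pr (kk K) := by
    rw [pr, ← Spec.map_comp, ← Spec.map_comp]
    congr 1
    refine CommRingCat.hom_ext (RingHom.ext fun c => ?_)
    change Polynomial.aeval _ (Polynomial.C c) = Polynomial.toLaurent (Polynomial.C c)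
    rw [Polynomial.toLaurent_C, Polynomial.aeval_C]
    rfl
  rw [eb] at h1
  refine h0.trans (Eq.trans ?_ h1.symm)
  refine pt_inv 0 _ ?_
  rw [← LaurentPolynomial.T_add]
  rfl

theorem isPullback : IsPullback (ι K) (ιinf K) (chart 0 (kk K)) (chart 1 (kk K)) := by
  refine IsOpenImmersion.isPullback _ _ _ _ (w K).symm ?_
  ext v
  refine (chart_mem_range_iff 0 (kk K) v).trans ?_
  have h := range_ιinf K
  exact Iff.of_eq (congrArg (fun s => v ∈ s) h).symm

/-- the point at infinity -/
noncomputable def inf : Spec (kk K) ⟶ PP (kk K) := zero K ≫ chart 1 (kk K)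

theorem inf_toB : inf K ≫ toB (kk K) = 𝟙 _ := by
  rw [inf, Category.assoc, chart_toB, pr, ← Spec.map_comp, ← Spec.map_id]
  congr 1
  ext b
  exact Polynomial.eval_C

instance isClosedImmersion_inf : IsClosedImmersion (inf K) := by
  have h2 : IsClosedImmersion (inf K ≫ toB (kk K)) := by
    rw [inf_toB]
    infer_instance
  exact IsClosedImmersion.of_comp (inf K) (toB (kk K))

theorem range_chart : Set.range (chart 0 (kk K)) = (Set.range (inf K))ᶜ := by
  have key : ∀ z : PP (kk K), z ∈ Set.range (inf K) ↔ z ∉ Set.range (chart 0 (kk K)) := by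
    intro z
    constructor
    · rintro ⟨x, rfl⟩
      rw [inf, Scheme.Hom.comp_apply]
      intro h
      refine (chart_mem_range_iff 0 (kk K) (zero K x)).1 h ?_
      change (Polynomial.evalRingHom (0 : K)) (Polynomial.X : K[X]) ∈ x.asIdeal
      simp
    · intro hz
      obtain ⟨w, hw, hw'⟩ := mem_range_other 0 (kk K) z hz
      refine ⟨pr (kk K) w, ?_⟩
      rw [← hw, inf, Scheme.Hom.comp_apply]
      refine congrArg (chart 1 (kk K)) ?_
      apply eq_of_X_mem (kk K) _ _ _ hw'
      · exact Subsingleton.elim (α := PrimeSpectrum K) _ _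
      · change (Polynomial.evalRingHom (0 : K)) (Polynomial.X : K[X]) ∈ (pr (kk K) w).asIdeal
        simp
  ext z
  rw [Set.mem_compl_iff, key, not_not]

end Groth.Agent.Sga4h.H137.P1
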