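import Groth.Agent.Sga4h.H137.WAInf
import Groth.Agent.Sga4h.H961.SumStep

/-!
# S4262: the final step

`R^m f_* (j_! A)` for a direct summand `A` of a sheaf `B` such that `R^m f_* (j_! B) ≅ T`, `WA N T`.
-/

set_option autoImplicit false
universe u

open CategoryTheory CategoryTheory.Limits AlgebraicGeometry Opposite Polynomial
open scoped LaurentPolynomial

namespace Groth.Agent.Sga4h.H137.S4262Of

open EtCoh Groth.Agent.Sga4h.H929.NDef Groth.Agent.Sga4h.H961

theorem isIso_app_of_retract {C D : Type*} [Category* C] [Category* D] {F G : C ⥤ D} (α : F ⟶ G)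
    {A B : C} (s : A ⟶ B) (r : B ⟶ A) (h : s ≫ r = 𝟙 A) [IsIso (α.app B)] : IsIso (α.app A) := by
  refine ⟨G.map s ≫ inv (α.app B) ≫ F.map r, ?_, ?_⟩
  · rw [← α.naturality_assoc, IsIso.hom_inv_id_assoc, ← F.map_comp, h, F.map_id]
  · rw [Category.assoc, Category.assoc, α.naturality, IsIso.inv_hom_id_assoc, ← G.map_comp, h, G.map_id]

theorem isZero_of_retract {C : Type*} [Category* C] [HasZeroMorphisms C] {A B : C} (s : A ⟶ B) (r : B ⟶ A)
    (h : s ≫ r = 𝟙 A) (hB : IsZero B) : IsZero A := by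
  rw [IsZero.iff_id_eq_zero, ← h, hB.eq_of_tgt s 0, Limits.zero_comp]

theorem main {K : Type u} [Field K] [IsAlgClosed K] {X P : Scheme.{u}} (j : X ⟶ P) [IsOpenImmersion j]
    (f : P ⟶ Spec (CommRingCat.of K[X])) (m : ℕ) {N : ℕ} {A B : Ab X} (h : SumStep.Summand A B)
    {T : Ab (Spec (CommRingCat.of K[X]))} (hT : WA N T)
    (e : Nonempty ((Rpush f m).obj ((EtShriek.extZero j).obj B) ≅ T)) :
    IsIso ((pullPushAdj (ι K)).unit.app ((Rpush f m).obj ((EtShriek.extZero j).obj A))) ∧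
    IsZero ((pull (zero K)).obj ((push (ιinf K)).obj ((pull (ι K)).obj
      ((Rpush f m).obj ((EtShriek.extZero j).obj A))))) := by
  obtain ⟨s, r, hsr⟩ := h
  obtain ⟨e⟩ := e
  have h1 : IsIso ((pullPushAdj (ι K)).unit.app T) := AB.isIso_unit_of_WA hT
  have h2 : IsZero ((pull (zero K)).obj ((push (ιinf K)).obj ((pull (ι K)).obj T))) :=
    WAInf.isZero_inf_push hT
  let s' : (Rpush f m).obj ((EtShriek.extZero j).obj A) ⟶ T :=
    (Rpush f m).map ((EtShriek.extZero j).map s) ≫ e.hom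
  let r' : T ⟶ (Rpush f m).obj ((EtShriek.extZero j).obj A) :=
    e.inv ≫ (Rpush f m).map ((EtShriek.extZero j).map r)
  have h3 : s' ≫ r' = 𝟙 _ := by
    simp only [s', r', Category.assoc, Iso.hom_inv_id_assoc]
    rw [← Functor.map_comp, ← Functor.map_comp, hsr, CategoryTheory.Functor.map_id, CategoryTheory.Functor.map_id]
  refine ⟨isIso_app_of_retract (pullPushAdj (ι K)).unit s' r' h3, ?_⟩
  refine isZero_of_retract ((pull (zero K)).map ((push (ιinf K)).map ((pull (ι K)).map s')))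
    ((pull (zero K)).map ((push (ιinf K)).map ((pull (ι K)).map r'))) ?_ h2
  rw [← Functor.map_comp, ← Functor.map_comp, ← Functor.map_comp, h3, CategoryTheory.Functor.map_id, CategoryTheory.Functor.map_id,
    CategoryTheory.Functor.map_id]

end Groth.Agent.Sga4h.H137.S4262Of
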