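import Groth.Agent.Sga4h.H137.CurveD1
import Groth.Agent.Sga4h.H137.AB

/-!
# (B): `(R^i ιinf_* ι^* T)_∞ = 0` for `WA n T`
-/

set_option autoImplicit false
universe u

open CategoryTheory CategoryTheory.Limits AlgebraicGeometry Opposite Polynomial
open scoped LaurentPolynomial

namespace Groth.Agent.Sga4h.H137.WAInf

open EtCoh Groth.Agent.Sga4h.PushDer Groth.Agent.Sga4h.H929.NDef

variable {K : Type u} [Field K] {n : ℕ} {T : Ab (Spec (CommRingCat.of K[X]))}

theorem isZero_inf (hT : WA n T) (i : ℕ) :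
    IsZero ((pull (zero K)).obj ((Rpush (ιinf K) i).obj ((pull (ι K)).obj T))) :=
  CurveD1.d1 T hT.hH (fun j _ f _ w i => hT.hc j f w i) i

theorem isZero_inf_push (hT : WA n T) :
    IsZero ((pull (zero K)).obj ((push (ιinf K)).obj ((pull (ι K)).obj T))) :=
  (isZero_inf hT 0).of_iso ((pull (zero K)).mapIso ((rpushZeroIso (ιinf K)).app _).symm)

end Groth.Agent.Sga4h.H137.WAInf
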